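import Groth.Agent.SGA3bLib.Torsion

/-!
A group of multiplicative type and of finite type is finite iff it is killed by an integer.
-/

universe u

open TensorProduct Coalgebra

noncomputable section

namespace Groth.Agent.SGA3bLib.FiniteType

open Basic Torsion

variable {R : Type u} [CommRing R] {A : Type u} [CommRing A] [HopfAlgebra R A]

theorem exists_torsion_eq_bot (hA : SGA3b.IsMultType R A) [Module.Finite R A] :
    ∃ n : ℕ, 0 < n ∧ SGA3b.torsionIdeal R A n = ⊥ := by
  classical
  obtain ⟨d, v, hv⟩ := Module.Finite.exists_fin (R := R) (M := A)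
  refine ⟨d.factorial, d.factorial_pos, ?_⟩
  rw [SGA3b.torsionIdeal, eq_bot_iff, Ideal.map_le_iff_le_comap]
  intro a ha
  rw [Ideal.mem_comap, Ideal.mem_bot]
  refine eq_zero_of_diag hA _ fun T _ _ ⟨M, _, ⟨e⟩⟩ => ?_
  rcases subsingleton_or_nontrivial T with hT | hT
  · exact (Subsingleton.elim (α := T) 1 0).symm ▸ TensorProduct.zero_tmul _ _
  have hfin : Module.Finite T (MonoidAlgebra T M) :=
    Module.Finite.of_surjective ((e : T ⊗[R] A →ₐ[T] MonoidAlgebra T M).toLinearMap) e.toEquiv.surjective
  let b : Module.Basis M T (MonoidAlgebra T M) := Module.Basis.ofRepr (MonoidAlgebra.coeffLinearEquiv T)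
  have : Finite M := Module.Finite.finite_basis b
  have : Fintype M := Fintype.ofFinite M
  have hcard : Fintype.card M ≤ d := by
    have hspan : Submodule.span T (Set.range fun i => e ((1 : T) ⊗ₜ[R] v i)) = ⊤ := by
      rw [eq_top_iff]
      rintro z -
      obtain ⟨w, rfl⟩ := e.toEquiv.surjective z
      show e w ∈ _
      induction w with
      | zero => rw [map_zero]; exact zero_mem _
      | add x y hx hy => rw [map_add]; exact add_mem hx hy
      | tmul t x =>
        obtain ⟨c, rfl⟩ := (Submodule.mem_span_range_iff_exists_fun R).1 (hv ▸ Submodule.mem_top : x ∈ Submodule.span R (Set.range v))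
        rw [tmul_sum, map_sum]
        refine Submodule.sum_mem _ fun i _ => ?_
        rw [show t ⊗ₜ[R] (c i • v i) = (c i • t) • ((1 : T) ⊗ₜ[R] v i) by
          rw [TensorProduct.smul_tmul', smul_eq_mul, mul_one, TensorProduct.smul_tmul], map_smul]
        exact Submodule.smul_mem _ _ (Submodule.subset_span ⟨i, rfl⟩)
    have h1 := finrank_range_le_card (R := T) (fun i => e ((1 : T) ⊗ₜ[R] v i))
    rw [Set.finrank, hspan, finrank_top, Module.finrank_eq_card_basis b, Fintype.card_fin] at h1
    exact h1
  have hpow : (powMonoidHom d.factorial : M →* M) = 1 := MonoidHom.ext fun m => by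
    obtain ⟨k, hk⟩ := Nat.dvd_factorial Fintype.card_pos hcard
    rw [powMonoidHom_apply, hk, pow_mul, pow_card_eq_one, one_pow]
    rfl
  apply e.toEquiv.injective
  show inc e (SGA3b.powConv R A d.factorial a) = e 0
  rw [map_zero, inc_powConv, hpow]
  have h0 : ∀ z : MonoidAlgebra T M, MonoidAlgebra.mapDomainAlgHom T T (1 : M →* M) z =
      algebraMap T _ (counit (R := T) z) := fun z => by
    induction z using MonoidAlgebra.induction_linear with
    | zero => simp
    | add x y hx hy => rw [map_add, map_add, map_add, hx, hy]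
    | single m t => simp [Algebra.smul_def]
  rw [h0, inc_apply, CoalgHomClass.counit_comp_apply, TensorProduct.counit_tmul,
    show counit (R := R) a = 0 from ha]
  simp

end Groth.Agent.SGA3bLib.FiniteType

end
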