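import Groth.Agent.SGA3bLib.Rigidity

/-!
Groups of multiplicative type over a local ring: a homomorphism trivial on the closed fibre is trivial.
-/

universe u

open TensorProduct Coalgebra

noncomputable section

namespace Groth.Agent.SGA3bLib.LocalBase

open Basic Rigidity

variable {R : Type u} [CommRing R] [IsLocalRing R]

theorem eq_zero_of_smul {T : Type u} [CommRing T] [Algebra R T] [Module.Flat R T] (p : Ideal T) [p.IsPrime]
    (hp : p.comap (algebraMap R T) = IsLocalRing.maximalIdeal R) {N : Type u} [AddCommGroup N] [Module R N] (x : N)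
    {g : T} (hg : g ∉ p) (h : g • ((1 : T) ⊗ₜ[R] x) = 0) : x = 0 := by
  let L := Localization.AtPrime p
  have : Module.Flat R L := Module.Flat.trans R T L
  have : IsLocalHom (algebraMap R L) := ⟨fun a ha => by
    by_contra hna
    have hap : algebraMap R T a ∈ p := by
      rw [← Ideal.mem_comap, hp]
      exact hna
    rw [IsScalarTower.algebraMap_apply R T L] at ha
    exact ((IsLocalization.AtPrime.isUnit_to_map_iff L p _).1 ha) hap⟩
  have := Module.FaithfullyFlat.of_flat_of_isLocalHom (A := R) (B := L)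
  apply Module.FaithfullyFlat.tensorProduct_mk_injective (A := R) (B := L) N
  rw [map_zero]
  have h1 := congrArg (LinearMap.rTensor N (IsScalarTower.toAlgHom R T L).toLinearMap) h
  rw [TensorProduct.smul_tmul', map_zero, LinearMap.rTensor_tmul] at h1
  obtain ⟨u, hu⟩ := ((IsLocalization.AtPrime.isUnit_to_map_iff L p g).2 hg).exists_left_inv
  have h2 := congrArg (fun z => u • z) h1
  simp only [smul_zero, TensorProduct.smul_tmul', smul_eq_mul, mul_one] at h2
  rw [show (IsScalarTower.toAlgHom R T L).toLinearMap g = algebraMap T L g from rfl, hu] at h2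
  exact h2

variable {A : Type u} [CommRing A] [HopfAlgebra R A]

theorem exists_diag (hA : SGA3b.IsMultType R A) :
    ∃ (T : Type u) (_ : CommRing T) (_ : Algebra R T), Module.FaithfullyFlat R T ∧ SGA3b.IsDiag T (T ⊗[R] A) := by
  obtain ⟨s, hs, hloc⟩ := hA
  obtain ⟨f, hf, hfu⟩ : ∃ f ∈ s, IsUnit f := by
    by_contra! h
    exact (IsLocalRing.maximalIdeal.isMaximal R).ne_top (eq_top_iff.2 (hs ▸ Ideal.span_le.2 fun x hx => h x hx))
  obtain ⟨T, iT, _, hff, hdiag⟩ := hloc f hf
  let _ : Algebra R T := Algebra.compHom T (algebraMap R (Localization.Away f))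
  have : IsScalarTower R (Localization.Away f) T := IsScalarTower.of_algebraMap_eq fun _ => rfl
  have : Module.FaithfullyFlat R (Localization.Away f) :=
    Module.FaithfullyFlat.of_linearEquiv R R (IsLocalization.atUnit R (Localization.Away f) f hfu).toLinearEquiv.symm
  exact ⟨T, iT, inferInstance, Module.FaithfullyFlat.trans R (Localization.Away f) T,
    isDiag_cancel R (Localization.Away f) T A hdiag⟩

/-- A homomorphism trivial on the closed fibre is trivial. -/
theorem eq_trivial (hA : SGA3b.IsMultType R A) {C : Type u} [CommRing C] [HopfAlgebra R C] (φ : C →ₐc[R] A)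
    (S : Finset C)
    (hS : ∀ c, φ c - algebraMap R A (counit c) ∈ Ideal.span ((fun s => φ s - algebraMap R A (counit s)) '' (S : Set C)))
    (hs : ∀ c : C, φ c - algebraMap R A (counit c) ∈ Ideal.map (algebraMap R A) (IsLocalRing.maximalIdeal R)) (c : C) :
    φ c = algebraMap R A (counit c) := by
  classical
  obtain ⟨T, _, _, hff, M, _, ⟨e⟩⟩ := exists_diag hA
  let ι : A → MonoidAlgebra T M := fun a => e (1 ⊗ₜ a)
  let ιh : A →+* MonoidAlgebra T M :=
    (e : T ⊗[R] A →+* MonoidAlgebra T M).comp (Algebra.TensorProduct.includeRight : A →ₐ[R] T ⊗[R] A).toRingHom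
  let D : C → MonoidAlgebra T M := fun c => ι (φ c - algebraMap R A (counit c))
  let E : Ideal T := Ideal.span ((S.biUnion fun s => (D s).coeff.support.image (D s).coeff : Finset T) : Set T)
  have hDE : ∀ c m, (D c).coeff m ∈ E := by
    have hker : Ideal.span ((fun s => φ s - algebraMap R A (counit s)) '' (S : Set C)) ≤
        RingHom.ker ((red E M).toRingHom.comp ιh) := by
      refine Ideal.span_le.2 ?_
      rintro _ ⟨s, hs', rfl⟩
      show red E M (D s) = 0
      refine MonoidAlgebra.ext (Finsupp.ext fun a => ?_)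
      have : (D s).coeff a ∈ E := by
        by_cases ha : (D s).coeff a = 0
        · rw [ha]; exact E.zero_mem
        · exact Ideal.subset_span (Finset.mem_biUnion.2 ⟨s, hs', Finset.mem_image_of_mem _ (Finsupp.mem_support_iff.2 ha)⟩)
      revert this
      generalize D s = y
      intro this
      simpa [red] using Ideal.Quotient.eq_zero_iff_mem.2 this
    exact fun c m => coeff_mem_of_red (hker (hS c)) m
  obtain ⟨p, hp⟩ := PrimeSpectrum.comap_surjective_of_faithfullyFlat (A := R) (B := T) (IsLocalRing.closedPoint R)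
  have hp' : p.asIdeal.comap (algebraMap R T) = IsLocalRing.maximalIdeal R := congrArg PrimeSpectrum.asIdeal hp
  have hEp : E ≤ p.asIdeal := by
    rw [Ideal.span_le]
    intro x hx
    obtain ⟨s, -, hx⟩ := Finset.mem_biUnion.1 hx
    obtain ⟨m, -, rfl⟩ := Finset.mem_image.1 hx
    refine coeff_mem_of_red ?_ m
    have hker : Ideal.map (algebraMap R A) (IsLocalRing.maximalIdeal R) ≤
        RingHom.ker ((red p.asIdeal M).toRingHom.comp ιh) := by
      rw [Ideal.map_le_iff_le_comap]
      intro r hr
      show red p.asIdeal M (e (1 ⊗ₜ algebraMap R A r)) = 0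
      rw [show (1 : T) ⊗ₜ[R] algebraMap R A r = algebraMap T (T ⊗[R] A) (algebraMap R T r) by
        rw [Algebra.TensorProduct.algebraMap_apply, ← Algebra.TensorProduct.tmul_one_eq_one_tmul]; rfl,
        AlgHomClass.commutes, AlgHom.commutes, IsScalarTower.algebraMap_apply T (T ⧸ p.asIdeal),
        Ideal.Quotient.algebraMap_eq, Ideal.Quotient.eq_zero_iff_mem.2 (Ideal.mem_comap.1 (hp'.symm ▸ hr) : algebraMap R T r ∈ p.asIdeal),
        map_zero]
    exact hker (hs s)
  have hD : ∀ c, D c = bcHom φ T e (1 ⊗ₜ c) - algebraMap T _ (counit (R := T) ((1 : T) ⊗ₜ[R] c)) := fun c => by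
    show e (1 ⊗ₜ (φ c - algebraMap R A (counit c))) = _
    rw [tmul_sub, map_sub, bcHom_tmul]
    congr 1
    rw [show (1 : T) ⊗ₜ[R] algebraMap R A (counit c) = algebraMap T (T ⊗[R] A) (algebraMap R T (counit c)) by
      rw [Algebra.TensorProduct.algebraMap_apply, ← Algebra.TensorProduct.tmul_one_eq_one_tmul]; rfl,
      AlgHomClass.commutes]
    simp [Algebra.smul_def]
  have hall : ∀ z m, ((bcHom φ T e : T ⊗[R] C →ₐ[T] MonoidAlgebra T M) z -
      algebraMap T _ (counit (R := T) z)).coeff m ∈ E := by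
    intro z m
    show (bcHom φ T e z - algebraMap T _ (counit (R := T) z)).coeff m ∈ E
    induction z with
    | zero => simp
    | add x y hx hy =>
      rw [map_add, map_add, map_add, add_sub_add_comm, MonoidAlgebra.coeff_add, Finsupp.add_apply]
      exact add_mem hx hy
    | tmul t c =>
      rw [show t ⊗ₜ[R] c = t • ((1 : T) ⊗ₜ[R] c) by rw [TensorProduct.smul_tmul', smul_eq_mul, mul_one],
        map_smul, map_smul, smul_eq_mul, map_mul, ← Algebra.smul_def, ← smul_sub, ← hD, MonoidAlgebra.coeff_smul,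
        Finsupp.smul_apply]
      exact Ideal.mul_mem_left _ _ (hDE c m)
  have hsq : E ≤ E • E := by
    rw [Ideal.span_le]
    intro x hx
    obtain ⟨s, -, hx⟩ := Finset.mem_biUnion.1 hx
    obtain ⟨m, -, rfl⟩ := Finset.mem_image.1 hx
    have := rigid_pow (bcHom φ T e : T ⊗[R] C →ₐ[T] MonoidAlgebra T M) (isMult_bialgHom _) hall 1 (1 ⊗ₜ s) m
    rw [pow_two] at this
    rw [hD]
    exact this
  obtain ⟨r, hr, hr0⟩ := Submodule.exists_sub_one_mem_and_smul_eq_zero_of_fg_of_le_smul E E ⟨_, rfl⟩ hsq
  have hrp : r ∉ p.asIdeal := fun h => (Ideal.ne_top_iff_one p.asIdeal).1 p.isPrime.ne_top (by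
    have := p.asIdeal.sub_mem h (hEp hr)
    rwa [sub_sub_cancel] at this)
  refine sub_eq_zero.1 (eq_zero_of_smul p.asIdeal hp' _ hrp (e.toEquiv.injective ?_))
  show e (r • _) = e 0
  rw [map_smul, map_zero]
  refine MonoidAlgebra.ext (Finsupp.ext fun m => ?_)
  simpa [D, ι] using hr0 _ (hDE c m)

/-- A multiplicative family trivial modulo a prime and generated by finitely many values is trivial near it. -/
theorem exists_smul_eq_zero {T : Type u} [CommRing T] {M : Type u} [CommGroup M] {C : Type u} [CommRing C]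
    [Bialgebra T C] (f : C →ₐ[T] MonoidAlgebra T M) (hf : IsMult T M f) (S : Finset C)
    (hS : Algebra.adjoin T (S : Set C) = ⊤) (p : Ideal T) [p.IsPrime]
    (hp : ∀ s ∈ S, red p M (f s) = red p M (algebraMap T _ (counit (R := T) s))) :
    ∃ r ∉ p, ∀ c, r • (f c - algebraMap T _ (counit (R := T) c)) = 0 := by
  classical
  let D : C → MonoidAlgebra T M := fun c => f c - algebraMap T _ (counit (R := T) c)
  let E : Ideal T := Ideal.span ((S.biUnion fun s => (D s).coeff.support.image (D s).coeff : Finset T) : Set T)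
  have hDE : ∀ c m, (D c).coeff m ∈ E := by
    have heq : (red E M).comp f = (Algebra.ofId T _).comp (Bialgebra.counitAlgHom T C) := by
      refine AlgHom.ext_of_adjoin_eq_top hS fun x hx => ?_
      show red E _ (f x) = algebraMap T _ (counit (R := T) x)
      rw [← AlgHom.commutes (red E M), ← sub_eq_zero, ← map_sub, show f x - algebraMap T _ (counit (R := T) x) = D x from rfl]
      refine MonoidAlgebra.ext (Finsupp.ext fun a => ?_)
      have : (D x).coeff a ∈ E := by
        by_cases ha : (D x).coeff a = 0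
        · rw [ha]; exact E.zero_mem
        · exact Ideal.subset_span (Finset.mem_biUnion.2 ⟨x, hx, Finset.mem_image_of_mem _ (Finsupp.mem_support_iff.2 ha)⟩)
      revert this
      generalize D x = y
      intro this
      simpa [red] using Ideal.Quotient.eq_zero_iff_mem.2 this
    intro c m
    refine coeff_mem_of_red ?_ m
    show red E _ (f c - algebraMap T _ (counit (R := T) c)) = 0
    rw [map_sub, AlgHom.commutes, sub_eq_zero]
    exact AlgHom.congr_fun heq c
  have hEp : E ≤ p := by
    rw [Ideal.span_le]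
    intro x hx
    obtain ⟨s, hs, hx⟩ := Finset.mem_biUnion.1 hx
    obtain ⟨m, -, rfl⟩ := Finset.mem_image.1 hx
    refine coeff_mem_of_red ?_ m
    show red p M (f s - algebraMap T _ (counit (R := T) s)) = 0
    rw [map_sub, hp s hs, sub_self]
  have hsq : E ≤ E • E := by
    rw [Ideal.span_le]
    intro x hx
    obtain ⟨s, -, hx⟩ := Finset.mem_biUnion.1 hx
    obtain ⟨m, -, rfl⟩ := Finset.mem_image.1 hx
    have := rigid_pow f hf hDE 1 s m
    rwa [pow_two] at this
  obtain ⟨r, hr, hr0⟩ := Submodule.exists_sub_one_mem_and_smul_eq_zero_of_fg_of_le_smul E E ⟨_, rfl⟩ hsq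
  refine ⟨r, fun h => (Ideal.ne_top_iff_one p).1 (Ideal.IsPrime.ne_top ‹_›) (by
    have := p.sub_mem h (hEp hr)
    rwa [sub_sub_cancel] at this), fun c => MonoidAlgebra.ext (Finsupp.ext fun m => ?_)⟩
  simpa [D] using hr0 _ (hDE c m)

/-- Homomorphisms into a commutative group agreeing on the closed fibre are equal. -/
theorem eq_of_fibre (hA : SGA3b.IsMultType R A) {C : Type u} [CommRing C] [HopfAlgebra R C] [Coalgebra.IsCocomm R C]
    [Algebra.FiniteType R C] (φ ψ : C →ₐc[R] A)
    (hs : ∀ c : C, φ c - ψ c ∈ Ideal.map (algebraMap R A) (IsLocalRing.maximalIdeal R)) : φ = ψ := by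
  obtain ⟨T, _, _, hff, M, _, ⟨e⟩⟩ := exists_diag hA
  obtain ⟨p, hp⟩ := PrimeSpectrum.comap_surjective_of_faithfullyFlat (A := R) (B := T) (IsLocalRing.closedPoint R)
  have hp' : p.asIdeal.comap (algebraMap R T) = IsLocalRing.maximalIdeal R := congrArg PrimeSpectrum.asIdeal hp
  let a : WithConv (T ⊗[R] C →ₐ[T] MonoidAlgebra T M) := WithConv.toConv (bcHom φ T e)
  let b : WithConv (T ⊗[R] C →ₐ[T] MonoidAlgebra T M) := WithConv.toConv (bcHom ψ T e)
  have hmult : IsMult T M (a / b).ofConv := by
    show postComp (jm ((MonoidHom.id M).prod (MonoidHom.id M))) (a / b) =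
      postComp (jm (MonoidHom.inl M M)) (a / b) * postComp (jm (MonoidHom.inr M M)) (a / b)
    rw [map_div, map_div, map_div,
      show postComp (jm ((MonoidHom.id M).prod (MonoidHom.id M))) a = postComp (jm (MonoidHom.inl M M)) a *
        postComp (jm (MonoidHom.inr M M)) a from isMult_bialgHom (bcHom φ T e),
      show postComp (jm ((MonoidHom.id M).prod (MonoidHom.id M))) b = postComp (jm (MonoidHom.inl M M)) b *
        postComp (jm (MonoidHom.inr M M)) b from isMult_bialgHom (bcHom ψ T e), mul_div_mul_comm]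
  have hred : postComp (red p.asIdeal M) a = postComp (red p.asIdeal M) b := by
    apply WithConv.ofConv_injective
    refine Algebra.TensorProduct.ext (Subsingleton.elim _ _) (AlgHom.ext fun c => ?_)
    show red _ M (e (1 ⊗ₜ φ c)) = red _ M (e (1 ⊗ₜ ψ c))
    rw [← sub_eq_zero, ← map_sub, ← map_sub, ← tmul_sub]
    have hker : Ideal.map (algebraMap R A) (IsLocalRing.maximalIdeal R) ≤
        RingHom.ker ((red p.asIdeal M).toRingHom.comp ((e : T ⊗[R] A →+* MonoidAlgebra T M).comp
          (Algebra.TensorProduct.includeRight : A →ₐ[R] T ⊗[R] A).toRingHom)) := by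
      rw [Ideal.map_le_iff_le_comap]
      intro r hr
      show red p.asIdeal M (e (1 ⊗ₜ algebraMap R A r)) = 0
      rw [show (1 : T) ⊗ₜ[R] algebraMap R A r = algebraMap T (T ⊗[R] A) (algebraMap R T r) by
        rw [Algebra.TensorProduct.algebraMap_apply, ← Algebra.TensorProduct.tmul_one_eq_one_tmul]; rfl,
        AlgHomClass.commutes, AlgHom.commutes, IsScalarTower.algebraMap_apply T (T ⧸ p.asIdeal),
        Ideal.Quotient.algebraMap_eq,
        Ideal.Quotient.eq_zero_iff_mem.2 (Ideal.mem_comap.1 (hp'.symm ▸ hr) : algebraMap R T r ∈ p.asIdeal),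
        map_zero]
    exact hker (hs c)
  obtain ⟨S, hS⟩ := Algebra.FiniteType.out (R := T) (A := T ⊗[R] C)
  obtain ⟨r, hr, hr0⟩ := exists_smul_eq_zero (a / b).ofConv hmult S hS p.asIdeal fun s _ => by
    have h1 : postComp (red p.asIdeal M) (a / b) = 1 := by
      rw [div_eq_mul_inv, map_mul, hred, ← map_mul, mul_inv_cancel, map_one]
    rw [show red _ M ((a / b).ofConv s) = _ from congrArg (fun w => w.ofConv s) h1, AlgHom.commutes]
    rfl
  let L := Localization.AtPrime p.asIdeal
  let μ := MonoidAlgebra.mapRingHom M (algebraMap T L)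
  let ι : MonoidAlgebra T M →ₐ[T] MonoidAlgebra L M := MonoidAlgebra.mapAlgHom M (Algebra.ofId T L)
  have hab : postComp ι a = postComp ι b := by
    suffices h1 : postComp ι (a / b) = 1 by
      rw [← _root_.one_mul (postComp ι b), ← h1, ← map_mul, div_mul_cancel]
    refine WithConv.ofConv_injective (AlgHom.ext fun c => ?_)
    show ι ((a / b).ofConv c) = algebraMap T _ (counit (R := T) c)
    rw [← AlgHom.commutes ι, ← sub_eq_zero, ← map_sub]
    obtain ⟨u, hu⟩ := ((IsLocalization.AtPrime.isUnit_to_map_iff L p.asIdeal r).2 hr).exists_left_inv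
    have h2 : algebraMap T L r • ι ((a / b).ofConv c - algebraMap T _ (counit (R := T) c)) = 0 := by
      rw [algebraMap_smul, ← map_smul, hr0, map_zero]
    have h3 := congrArg (fun z => u • z) h2
    simp only [smul_smul, hu, one_smul, smul_zero] at h3
    exact h3
  refine BialgHom.ext fun c => sub_eq_zero.1 ?_
  have h := congrArg (fun w => w.ofConv (1 ⊗ₜ c)) hab
  change ι (e (1 ⊗ₜ φ c)) = ι (e (1 ⊗ₜ ψ c)) at h
  rw [← sub_eq_zero, ← map_sub, ← map_sub, ← tmul_sub] at h
  have : ∀ z : MonoidAlgebra T M, ι z = 0 → ∃ g ∉ p.asIdeal, g • z = 0 := fun z hz => by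
    classical
    have h1 : ∀ m, ∃ g ∉ p.asIdeal, g * z.coeff m = 0 := fun m => by
      have h2 : algebraMap T L (z.coeff m) = 0 := by
        have := congrArg (fun w => w.coeff m) hz
        simpa [ι] using this
      obtain ⟨⟨g, hg⟩, h3⟩ := (IsLocalization.map_eq_zero_iff p.asIdeal.primeCompl L _).1 h2
      exact ⟨g, hg, h3⟩
    choose g hg hgz using h1
    refine ⟨∏ m ∈ z.coeff.support, g m, fun h => ?_, MonoidAlgebra.ext (Finsupp.ext fun m => ?_)⟩
    · obtain ⟨m, -, hm⟩ := (Ideal.IsPrime.prod_mem_iff).1 h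
      exact hg m hm
    · rw [MonoidAlgebra.coeff_smul, Finsupp.smul_apply, smul_eq_mul]
      by_cases hm : z.coeff m = 0
      · simp [hm]
      · rw [← Finset.prod_erase_mul _ _ (Finsupp.mem_support_iff.2 hm), mul_assoc, hgz, mul_zero]
        simp
  obtain ⟨g, hg, hgz⟩ := this _ h
  refine eq_zero_of_smul p.asIdeal hp' _ hg (e.toEquiv.injective ?_)
  show e (g • _) = e 0
  rw [map_smul, map_zero]
  exact hgz

/-- finitely many elements generate the ideal of the kernel -/
theorem exists_finset {C : Type u} [CommRing C] [HopfAlgebra R C] (φ : C →ₐc[R] A)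
    (h : IsNoetherianRing A ∨ Algebra.FiniteType R C) :
    ∃ S : Finset C, ∀ c, φ c - algebraMap R A (counit c) ∈
      Ideal.span ((fun s => φ s - algebraMap R A (counit s)) '' (S : Set C)) := by
  classical
  rcases h with h | h
  · obtain ⟨t, ht, hfin⟩ := (Submodule.fg_span_iff_fg_span_finset_subset
      (Set.range fun c => φ c - algebraMap R A (counit c))).1 (IsNoetherian.noetherian
        (Ideal.span (Set.range fun c => φ c - algebraMap R A (counit c))))
    have : ∀ x ∈ t, ∃ c, φ c - algebraMap R A (counit c) = x := fun x hx => ht hx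
    choose g hg using this
    refine ⟨t.attach.image fun x => g x.1 x.2, fun c => ?_⟩
    have h1 : φ c - algebraMap R A (counit c) ∈ Ideal.span (t : Set A) := (show Ideal.span (Set.range fun c => φ c - algebraMap R A (counit c)) = Ideal.span (t : Set A) from hfin) ▸
      Ideal.subset_span ⟨c, rfl⟩
    refine Ideal.span_mono (fun x hx => ?_) h1
    exact ⟨g x hx, Finset.mem_coe.2 (Finset.mem_image.2 ⟨⟨x, hx⟩, Finset.mem_attach _ _, rfl⟩), hg x hx⟩
  · obtain ⟨S, hS⟩ := Algebra.FiniteType.out (R := R) (A := C)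
    refine ⟨S, fun c => ?_⟩
    let I := Ideal.span ((fun s => φ s - algebraMap R A (counit s)) '' (S : Set C))
    have heq : (Ideal.Quotient.mkₐ R I).comp (φ : C →ₐ[R] A) =
        (Algebra.ofId R (A ⧸ I)).comp (Bialgebra.counitAlgHom R C) := by
      refine AlgHom.ext_of_adjoin_eq_top hS fun s hs => ?_
      show Ideal.Quotient.mk I (φ s) = Ideal.Quotient.mk I (algebraMap R A (counit s))
      exact Ideal.Quotient.eq.2 (Ideal.subset_span ⟨s, hs, rfl⟩)
    exact Ideal.Quotient.eq.1 (AlgHom.congr_fun heq c)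

end Groth.Agent.SGA3bLib.LocalBase

end
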