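import Groth.Agent.SGA3bLib.Basic

/-!
Rigidity and monomorphisms for groups of multiplicative type over a ring, in Hopf-algebra form.
-/

universe u

open TensorProduct Coalgebra

noncomputable section

namespace Groth.Agent.SGA3bLib.Rigidity

open Basic

variable {R : Type u} [CommRing R] {A : Type u} [CommRing A] [HopfAlgebra R A] {C : Type u} [CommRing C]
  [HopfAlgebra R C]

/-- base change of a homomorphism, read in `T[M]` -/
def bcHom (φ : C →ₐc[R] A) (T : Type u) [CommRing T] [Algebra R T] {M : Type u} [CommGroup M]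
    (e : T ⊗[R] A ≃ₐc[T] MonoidAlgebra T M) : T ⊗[R] C →ₐc[T] MonoidAlgebra T M :=
  (e : T ⊗[R] A →ₐc[T] MonoidAlgebra T M).comp (Bialgebra.TensorProduct.map (BialgHom.id T T) φ)

theorem bcHom_tmul (φ : C →ₐc[R] A) (T : Type u) [CommRing T] [Algebra R T] {M : Type u} [CommGroup M]
    (e : T ⊗[R] A ≃ₐc[T] MonoidAlgebra T M) (t : T) (c : C) : bcHom φ T e (t ⊗ₜ c) = e (t ⊗ₜ φ c) := rfl

/-- reduction of the coefficients -/
abbrev red {T : Type u} [CommRing T] (I : Ideal T) (M : Type u) [CommGroup M] :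
    MonoidAlgebra T M →ₐ[T] MonoidAlgebra (T ⧸ I) M := MonoidAlgebra.mapAlgHom M (Ideal.Quotient.mkₐ T I)

theorem red_eq {T : Type u} [CommRing T] [Algebra R T] {M : Type u} [CommGroup M] (I : Ideal R)
    (e : T ⊗[R] A ≃ₐc[T] MonoidAlgebra T M) {x y : A}
    (h : (1 : R ⧸ I) ⊗ₜ[R] x = (1 : R ⧸ I) ⊗ₜ[R] y) :
    red (I.map (algebraMap R T)) M (e (1 ⊗ₜ x)) = red (I.map (algebraMap R T)) M (e (1 ⊗ₜ y)) := by
  have hmem : x - y ∈ I • (⊤ : Submodule R A) := by
    have h1 := congrArg (TensorProduct.quotTensorEquivQuotSMul A I) h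
    rw [show (1 : R ⧸ I) = Ideal.Quotient.mk I 1 from rfl, TensorProduct.quotTensorEquivQuotSMul_mk_tmul,
      TensorProduct.quotTensorEquivQuotSMul_mk_tmul, one_smul, one_smul] at h1
    exact (Submodule.Quotient.eq _).1 h1
  have key : ∀ z ∈ I • (⊤ : Submodule R A), red (I.map (algebraMap R T)) M (e (1 ⊗ₜ z)) = 0 := by
    intro z hz
    refine Submodule.smul_induction_on hz (fun r hr a _ => ?_) (fun a b ha hb => ?_)
    · rw [show (1 : T) ⊗ₜ[R] (r • a) = algebraMap R T r • ((1 : T) ⊗ₜ[R] a) by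
        rw [TensorProduct.tmul_smul, algebraMap_smul]]
      rw [map_smul, map_smul, Algebra.smul_def, IsScalarTower.algebraMap_apply T (T ⧸ I.map (algebraMap R T)),
        Ideal.Quotient.algebraMap_eq, Ideal.Quotient.eq_zero_iff_mem.2 (Ideal.mem_map_of_mem _ hr), map_zero,
        zero_mul]
    · rw [TensorProduct.tmul_add, map_add, map_add, ha, hb, add_zero]
  rw [← sub_eq_zero, ← map_sub, ← map_sub, ← TensorProduct.tmul_sub]
  exact key _ hmem

theorem coeff_mem_of_red {T : Type u} [CommRing T] {M : Type u} [CommGroup M] {I : Ideal T} {x : MonoidAlgebra T M}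
    (h : red I M x = 0) (m : M) : x.coeff m ∈ I := by
  have h1 := congrArg (fun z => z.coeff m) h
  simp [red] at h1
  exact Ideal.Quotient.eq_zero_iff_mem.1 h1

/-- A homomorphism trivial modulo a nilpotent ideal is trivial. -/
theorem eq_trivial (I : Ideal R) (hI : IsNilpotent I) (hA : SGA3b.IsMultType R A) (φ : C →ₐc[R] A)
    (h0 : ∀ c : C, (1 : R ⧸ I) ⊗ₜ[R] (φ c) = (1 : R ⧸ I) ⊗ₜ[R] (algebraMap R A (counit c))) (c : C) :
    φ c = algebraMap R A (counit c) := by
  refine sub_eq_zero.1 (eq_zero_of_diag hA _ fun T _ _ ⟨M, _, ⟨e⟩⟩ => ?_)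
  let ψ := bcHom φ T e
  have hnil : IsNilpotent (I.map (algebraMap R T)) := by
    obtain ⟨n, hn⟩ := hI
    exact ⟨n, by rw [← Ideal.map_pow, hn, Ideal.zero_eq_bot, Ideal.map_bot]; rfl⟩
  have hred : ∀ z : T ⊗[R] C, red (I.map (algebraMap R T)) M (ψ z) =
      red (I.map (algebraMap R T)) M (algebraMap T _ (counit (R := T) z)) := by
    intro z
    induction z with
    | zero => simp
    | add x y hx hy => rw [map_add, map_add, map_add, map_add, map_add, hx, hy]
    | tmul t c =>
      have h1 : (t ⊗ₜ[R] c : T ⊗[R] C) = t • (1 ⊗ₜ c) := by rw [TensorProduct.smul_tmul', smul_eq_mul, mul_one]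
      rw [h1, map_smul, map_smul, map_smul, smul_eq_mul, map_mul, map_mul,
        show ψ (1 ⊗ₜ c) = e (1 ⊗ₜ φ c) from rfl, red_eq I e (h0 c), Algebra.smul_def, AlgHom.commutes]
      congr 1
      rw [show (1 : T) ⊗ₜ[R] algebraMap R A (counit c) = algebraMap T (T ⊗[R] A) (algebraMap R T (counit c)) by
        rw [Algebra.TensorProduct.algebraMap_apply, ← Algebra.TensorProduct.tmul_one_eq_one_tmul]; rfl,
        AlgHomClass.commutes]
      simp [Algebra.smul_def]
  have h := Basic.rigid (ψ : T ⊗[R] C →ₐ[T] MonoidAlgebra T M) (isMult_bialgHom ψ) hnil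
    (fun z m => coeff_mem_of_red (by
      show red _ M (ψ z - _) = 0
      rw [map_sub, hred, sub_self]) m) (1 ⊗ₜ c)
  rw [TensorProduct.tmul_sub, sub_eq_zero]
  apply e.toEquiv.injective
  refine (show e (1 ⊗ₜ φ c) = _ from h).trans ?_
  rw [show (1 : T) ⊗ₜ[R] algebraMap R A (counit c) = algebraMap T (T ⊗[R] A) (algebraMap R T (counit c)) by
    rw [Algebra.TensorProduct.algebraMap_apply, ← Algebra.TensorProduct.tmul_one_eq_one_tmul]; rfl]
  refine (Eq.trans ?_ (AlgHomClass.commutes e _).symm)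
  simp [Algebra.smul_def]

/-- post-composition is multiplicative for convolution -/
def postComp {T : Type u} [CommRing T] {C' X Y : Type u} [CommRing C'] [Bialgebra T C'] [CommRing X] [Algebra T X]
    [CommRing Y] [Algebra T Y] (j : X →ₐ[T] Y) : WithConv (C' →ₐ[T] X) →* WithConv (C' →ₐ[T] Y) :=
  { toFun := fun a => WithConv.toConv (j.comp a.ofConv)
    map_one' := by
      apply WithConv.ofConv_injective
      refine AlgHom.ext fun c => ?_
      exact j.commutes _
    map_mul' := fun a b => WithConv.ofConv_injective (AlgHom.comp_convMul_distrib j a b) }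

/-- Homomorphisms into a commutative group agreeing modulo a nilpotent ideal are equal. -/
theorem eq_of_mod (I : Ideal R) (hI : IsNilpotent I) (hA : SGA3b.IsMultType R A) [Coalgebra.IsCocomm R C]
    (φ φ' : C →ₐc[R] A) (h0 : ∀ c : C, (1 : R ⧸ I) ⊗ₜ[R] (φ c) = (1 : R ⧸ I) ⊗ₜ[R] (φ' c)) : φ = φ' := by
  refine BialgHom.ext fun c => sub_eq_zero.1 (eq_zero_of_diag hA _ fun T _ _ ⟨M, _, ⟨e⟩⟩ => ?_)
  have hnil : IsNilpotent (I.map (algebraMap R T)) := by
    obtain ⟨n, hn⟩ := hI
    exact ⟨n, by rw [← Ideal.map_pow, hn, Ideal.zero_eq_bot, Ideal.map_bot]; rfl⟩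
  let a : WithConv (T ⊗[R] C →ₐ[T] MonoidAlgebra T M) := WithConv.toConv (bcHom φ T e)
  let b : WithConv (T ⊗[R] C →ₐ[T] MonoidAlgebra T M) := WithConv.toConv (bcHom φ' T e)
  have hmult : IsMult T M (a / b).ofConv := by
    show postComp (jm ((MonoidHom.id M).prod (MonoidHom.id M))) (a / b) =
      postComp (jm (MonoidHom.inl M M)) (a / b) * postComp (jm (MonoidHom.inr M M)) (a / b)
    rw [map_div, map_div, map_div,
      show postComp (jm ((MonoidHom.id M).prod (MonoidHom.id M))) a = postComp (jm (MonoidHom.inl M M)) a *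
        postComp (jm (MonoidHom.inr M M)) a from isMult_bialgHom (bcHom φ T e),
      show postComp (jm ((MonoidHom.id M).prod (MonoidHom.id M))) b = postComp (jm (MonoidHom.inl M M)) b *
        postComp (jm (MonoidHom.inr M M)) b from isMult_bialgHom (bcHom φ' T e), mul_div_mul_comm]
  have hred : postComp (red (I.map (algebraMap R T)) M) a = postComp (red (I.map (algebraMap R T)) M) b := by
    apply WithConv.ofConv_injective
    refine Algebra.TensorProduct.ext (Subsingleton.elim _ _) (AlgHom.ext fun c => ?_)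
    show red _ M (bcHom φ T e (1 ⊗ₜ c)) = red _ M (bcHom φ' T e (1 ⊗ₜ c))
    rw [bcHom_tmul, bcHom_tmul]
    exact red_eq I e (h0 c)
  have h := Basic.rigid (a / b).ofConv hmult hnil fun z m => coeff_mem_of_red (by
    have h1 : postComp (red (I.map (algebraMap R T)) M) (a / b) = 1 := by
      rw [div_eq_mul_inv, map_mul, hred, ← map_mul, mul_inv_cancel, map_one]
    rw [map_sub, show red _ M ((a / b).ofConv z) = _ from congrArg (fun w => w.ofConv z) h1, AlgHom.commutes]
    exact sub_self _) m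
  have hab : a = b := div_eq_one.1 (WithConv.ofConv_injective (AlgHom.ext h))
  rw [TensorProduct.tmul_sub, sub_eq_zero]
  exact e.toEquiv.injective (congrArg (fun w => w.ofConv (1 ⊗ₜ c)) hab)

/-- A monomorphism out of a group of multiplicative type into an affine group is a closed immersion. -/
theorem surjective_of_mono (hA : SGA3b.IsMultType R A) (φ : C →ₐc[R] A)
    (hmono : ∀ (T : Type u) [CommRing T] [Algebra R T],
      Function.Injective (fun x : A →ₐ[R] T => x.comp (φ : C →ₐ[R] A))) : Function.Surjective φ := by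
  refine surjective_of_diag hA (φ : C →ₗ[R] A) fun T _ _ ⟨M, _, ⟨e⟩⟩ => ?_
  have hs : Function.Surjective (bcHom φ T e) := by
    refine Basic.surjective_of_mono _ fun L _ _ x y hxy => ?_
    let _ : Algebra R L := Algebra.compHom L (algebraMap R T)
    have : IsScalarTower R T L := IsScalarTower.of_algebraMap_eq fun _ => rfl
    let x' : T ⊗[R] A →ₐ[T] L := x.comp (e : T ⊗[R] A →ₐ[T] MonoidAlgebra T M)
    let y' : T ⊗[R] A →ₐ[T] L := y.comp (e : T ⊗[R] A →ₐ[T] MonoidAlgebra T M)
    have h1 : x' = y' := by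
      refine Algebra.TensorProduct.ext (Subsingleton.elim _ _) (hmono L (AlgHom.ext fun c => ?_))
      exact AlgHom.congr_fun hxy (1 ⊗ₜ c)
    refine AlgHom.ext fun z => ?_
    obtain ⟨w, rfl⟩ := e.toEquiv.surjective z
    exact AlgHom.congr_fun h1 w
  intro z
  obtain ⟨w, hw⟩ := hs (e z)
  refine ⟨w, e.toEquiv.injective ?_⟩
  refine Eq.trans ?_ hw
  clear hw
  induction w with
  | zero => simp
  | tmul t c => rfl
  | add a b ha hb => exact (map_add (bcHom φ T e) a b).trans (by rw [← ha, ← hb]; simp) |>.symm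

end Groth.Agent.SGA3bLib.Rigidity

end
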