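import Groth.Agent.SGA3bLib.Rigidity

/-!
Quotients of groups of multiplicative type in Hopf-algebra form: closed subgroups over a field and kernels of the
power maps.
-/

universe u

open TensorProduct Coalgebra

noncomputable section

namespace Groth.Agent.SGA3bLib.Quotient

open Basic Rigidity

theorem isGroupLike_tmul_one {R S B : Type u} [CommRing R] [CommRing S] [Algebra R S] [CommRing B] [Bialgebra R B]
    {b : B} (hb : IsGroupLikeElem R b) : IsGroupLikeElem S ((1 : S) ⊗ₜ[R] b) where
  counit_eq_one := by simp [hb.counit_eq_one]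
  comul_eq_tmul_self := by simp [hb.comul_eq_tmul_self]

/-- the bialgebra map from a group algebra given by group-like elements -/
def liftGL {R B : Type u} [CommRing R] [CommRing B] [Bialgebra R B] {M : Type u} [CommGroup M] (φ : M →* B)
    (hφ : ∀ m, IsGroupLikeElem R (φ m)) : MonoidAlgebra R M →ₐc[R] B :=
  .ofAlgHom (MonoidAlgebra.lift R B M φ)
    (MonoidAlgebra.algHom_ext (fun m => by simp [(hφ m).counit_eq_one]) (Subsingleton.elim _ _))
    (MonoidAlgebra.algHom_ext (fun m => by simp [(hφ m).comul_eq_tmul_self]) (Subsingleton.elim _ _))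

theorem liftGL_single {R B : Type u} [CommRing R] [CommRing B] [Bialgebra R B] {M : Type u} [CommGroup M]
    (φ : M →* B) (hφ : ∀ m, IsGroupLikeElem R (φ m)) (m : M) : liftGL φ hφ (MonoidAlgebra.single m 1) = φ m :=
  MonoidAlgebra.lift_single φ m 1 |>.trans (one_smul _ _)

/-- A Hopf algebra over a field spanned by a group of group-like elements is diagonalisable. -/
theorem isDiag_of_span {L B : Type u} [Field L] [CommRing B] [HopfAlgebra L B] {M : Type u} [CommGroup M]
    (φ : M →* B) (hφ : ∀ m, IsGroupLikeElem L (φ m)) (hspan : Submodule.span L (Set.range φ) = ⊤) :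
    SGA3b.IsDiag L B := by
  let ψ : φ.toHomUnits.range →* B := (Units.coeHom B).comp φ.toHomUnits.range.subtype
  have hψ : ∀ x, IsGroupLikeElem L (ψ x) := by
    rintro ⟨_, m, rfl⟩
    exact hφ m
  have hinj : Function.Injective ψ := fun x y h => Subtype.ext (Units.ext h)
  have hbij : Function.Bijective (liftGL ψ hψ) := by
    refine ⟨(injective_iff_map_eq_zero _).2 fun z hz => ?_, fun b => ?_⟩
    · have hli : LinearIndependent L ψ :=
        ((linearIndep_groupLikeVal (R := L) (A := B)).comp (fun x => ⟨ψ x, hψ x⟩) fun x y h =>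
          hinj (congrArg GroupLike.val h))
      have h2 : Finsupp.linearCombination L ψ z.coeff = 0 := by
        rw [← hz]
        conv_rhs => rw [← MonoidAlgebra.sum_coeff_single z, Finsupp.sum, map_sum]
        rw [Finsupp.linearCombination_apply, Finsupp.sum]
        refine Finset.sum_congr rfl fun m _ => ?_
        exact (MonoidAlgebra.lift_single ψ m _).symm
      exact MonoidAlgebra.ext (linearIndependent_iff.1 hli _ h2)
    · have hb : b ∈ Submodule.span L (Set.range φ) := hspan ▸ Submodule.mem_top
      induction hb using Submodule.span_induction with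
      | mem x hx =>
        obtain ⟨m, rfl⟩ := hx
        exact ⟨MonoidAlgebra.single ⟨φ.toHomUnits m, m, rfl⟩ 1, (liftGL_single ψ hψ _).trans rfl⟩
      | zero => exact ⟨0, map_zero _⟩
      | add x y _ _ hx hy =>
        obtain ⟨x', rfl⟩ := hx
        obtain ⟨y', rfl⟩ := hy
        exact ⟨x' + y', map_add _ _ _⟩
      | smul a x _ hx =>
        obtain ⟨x', rfl⟩ := hx
        exact ⟨a • x', map_smul _ _ _⟩
  exact ⟨_, inferInstance, ⟨(BialgEquiv.ofBijective (liftGL ψ hψ) hbij).symm⟩⟩

variable {k : Type u} [Field k] {A : Type u} [CommRing A] [HopfAlgebra k A]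

/-- Closed subgroups of groups of multiplicative type over a field are of multiplicative type. -/
theorem isMultType_quotient_of_field (hA : SGA3b.IsMultType k A) (J : Ideal A) [J.IsHopfIdeal k] :
    SGA3b.IsMultType k (A ⧸ J) := by
  obtain ⟨s, hs, hloc⟩ := hA
  obtain ⟨f, hf, hf0⟩ : ∃ f ∈ s, f ≠ 0 := by
    by_contra! h
    have : Ideal.span s ≤ ⊥ := Ideal.span_le.2 fun x hx => h x hx
    exact bot_ne_top (eq_top_iff.2 (hs ▸ this))
  obtain ⟨T, _, _, hff, hdiag⟩ := hloc f hf
  let _ : Algebra k T := Algebra.compHom T (algebraMap k (Localization.Away f))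
  have : IsScalarTower k (Localization.Away f) T := IsScalarTower.of_algebraMap_eq fun _ => rfl
  obtain ⟨M, _, ⟨e⟩⟩ := isDiag_cancel k (Localization.Away f) T A hdiag
  let e₀ := IsLocalization.atUnit k (Localization.Away f) f (isUnit_iff_ne_zero.2 hf0)
  have hfield : IsField (Localization.Away f) := e₀.symm.toMulEquiv.isField (Field.toIsField k)
  let _ := hfield.toField
  have : Nontrivial T := by
    by_contra h
    rw [not_nontrivial_iff_subsingleton] at h
    exact Module.FaithfullyFlat.submodule_ne_top (R := Localization.Away f) (M := T)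
      (m := ⊥) Ideal.bot_isMaximal (Subsingleton.elim _ _)
  obtain ⟨m, hm⟩ := Ideal.exists_maximal T
  let L := T ⧸ m
  let _ : Field L := Ideal.Quotient.field m
  let g : T ⊗[k] A →ₐc[T] T ⊗[k] (A ⧸ J) :=
    Bialgebra.TensorProduct.map (BialgHom.id T T) (Bialgebra.Quotient.mkBialgHom J)
  have hg : Function.Surjective g := LinearMap.lTensor_surjective T
    (g := (Bialgebra.Quotient.mkBialgHom (R := k) J : A →ₗ[k] A ⧸ J)) Ideal.Quotient.mk_surjective
  let c := cancelBC k T L (A ⧸ J)
  let φ : M →* L ⊗[k] (A ⧸ J) :=
    { toFun := fun x => c (1 ⊗ₜ g (e.symm (MonoidAlgebra.single x 1)))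
      map_one' := by simp [← MonoidAlgebra.one_def, ← Algebra.TensorProduct.one_def]
      map_mul' := fun x y => by
        rw [← map_mul c, Algebra.TensorProduct.tmul_mul_tmul, _root_.one_mul, ← map_mul g, ← map_mul e.symm,
          MonoidAlgebra.single_mul_single, _root_.one_mul] }
  have hgl : ∀ x, IsGroupLikeElem L (φ x) := fun x =>
    (isGroupLike_tmul_one (((MonoidAlgebra.isGroupLikeElem_single_one x).map e.symm).map g)).map c
  have hspan : Submodule.span L (Set.range φ) = ⊤ := by
    rw [eq_top_iff]
    rintro z -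
    obtain ⟨w, rfl⟩ := c.toEquiv.surjective z
    induction w with
    | zero => exact (map_zero c).symm ▸ Submodule.zero_mem _
    | add x y hx hy => exact (map_add c x y).symm ▸ Submodule.add_mem _ hx hy
    | tmul l b =>
      obtain ⟨a, rfl⟩ := hg b
      obtain ⟨p, rfl⟩ : ∃ p, e.symm p = a := e.symm.toEquiv.surjective a
      induction p using MonoidAlgebra.induction_linear with
      | zero =>
        show c _ ∈ _
        rw [show g (e.symm 0) = 0 by simp, TensorProduct.tmul_zero, map_zero]
        exact Submodule.zero_mem _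
      | add x y hx hy =>
        show c _ ∈ _
        rw [show g (e.symm (x + y)) = g (e.symm x) + g (e.symm y) by simp, TensorProduct.tmul_add, map_add]
        exact Submodule.add_mem _ hx hy
      | single x t =>
        show c _ ∈ _
        rw [show g (e.symm (MonoidAlgebra.single x t)) = t • g (e.symm (MonoidAlgebra.single x 1)) by
            rw [← map_smul, ← map_smul, MonoidAlgebra.smul_single', mul_one],
          TensorProduct.tmul_smul, TensorProduct.smul_tmul',
          show (t • l) = (t • l) • (1 : L) by rw [smul_eq_mul, mul_one], ← TensorProduct.smul_tmul',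
          map_smul]
        exact Submodule.smul_mem _ _ (Submodule.subset_span ⟨x, rfl⟩)
  refine ⟨{f}, ?_, fun f' hf' => ?_⟩
  · exact Ideal.span_singleton_eq_top.2 (isUnit_iff_ne_zero.2 hf0)
  · rw [Set.mem_singleton_iff] at hf'
    subst hf'
    obtain ⟨M', iM, ⟨e'⟩⟩ := isDiag_of_span φ hgl hspan
    refine ⟨L, inferInstance, inferInstance, inferInstance, M', iM, ⟨(cancelBC k _ L (A ⧸ J)).trans e'⟩⟩

end Groth.Agent.SGA3bLib.Quotient

end
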