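import Groth.Prelude.Def_SGA3b
import Mathlib

/-!
Affine groups of multiplicative type in Hopf-algebra form: reduction of equalities and surjectivity to the
diagonalisable case, rigidity of homomorphisms into `T[M]`, and monomorphisms out of diagonalisable groups.
-/

universe u

open TensorProduct Coalgebra

noncomputable section

namespace Groth.Agent.SGA3bLib.Basic

section BaseChange

variable (R S T A : Type u) [CommRing R] [CommRing S] [CommRing T] [CommRing A] [Algebra R S] [Algebra R T]
  [Algebra S T] [IsScalarTower R S T] [HopfAlgebra R A]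

/-- base change in two steps, as bialgebras -/
def cancelBC : (T ⊗[S] (S ⊗[R] A)) ≃ₐc[T] (T ⊗[R] A) :=
  BialgEquiv.ofAlgEquiv (Algebra.TensorProduct.cancelBaseChange R S T T A)
    (by ext a; simp [Algebra.smul_def])
    (by
      ext a
      simp only [AlgHom.coe_comp, Function.comp_apply]
      simp [← (ℛ R a).eq, tmul_sum, map_sum])

theorem isDiag_cancel (h : SGA3b.IsDiag T (T ⊗[S] (S ⊗[R] A))) : SGA3b.IsDiag T (T ⊗[R] A) := by
  obtain ⟨M, iM, ⟨e⟩⟩ := h
  exact ⟨M, iM, ⟨(cancelBC R S T A).symm.trans e⟩⟩

end BaseChange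

variable {R : Type u} [CommRing R] {A : Type u} [CommRing A] [HopfAlgebra R A]

/-- An element vanishes if it vanishes over every base change making the group diagonalisable. -/
theorem eq_zero_of_diag (hA : SGA3b.IsMultType R A) {N : Type u} [AddCommGroup N] [Module R N] (x : N)
    (h : ∀ (T : Type u) [CommRing T] [Algebra R T], SGA3b.IsDiag T (T ⊗[R] A) → (1 : T) ⊗ₜ[R] x = 0) : x = 0 := by
  obtain ⟨s, hs, hloc⟩ := hA
  have key : ∀ f ∈ s, f ∈ Ideal.radical (LinearMap.ker (LinearMap.toSpanSingleton R N x)) := by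
    intro f hf
    obtain ⟨T, _, _, hff, hdiag⟩ := hloc f hf
    let _ : Algebra R T := Algebra.compHom T (algebraMap R (Localization.Away f))
    have : IsScalarTower R (Localization.Away f) T := IsScalarTower.of_algebraMap_eq fun _ => rfl
    have h1 : (1 : T) ⊗ₜ[R] x = 0 := h T (isDiag_cancel R (Localization.Away f) T A hdiag)
    have h2 : (1 : T) ⊗ₜ[Localization.Away f] ((1 : Localization.Away f) ⊗ₜ[R] x) = 0 := by
      rw [← (TensorProduct.AlgebraTensorModule.cancelBaseChange R (Localization.Away f) T T N).map_eq_zero_iff]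
      simpa using h1
    have h3 : (1 : Localization.Away f) ⊗ₜ[R] x = 0 :=
      Module.FaithfullyFlat.tensorProduct_mk_injective (A := Localization.Away f) (B := T) _
        (h2.trans (map_zero _).symm)
    obtain ⟨⟨_, n, rfl⟩, hn⟩ := (IsLocalizedModule.eq_zero_iff (Submonoid.powers f)
      (TensorProduct.mk R (Localization.Away f) N 1)).1 h3
    exact ⟨n, hn⟩
  have htop : Ideal.radical (LinearMap.ker (LinearMap.toSpanSingleton R N x)) = ⊤ :=
    eq_top_iff.2 (hs ▸ Ideal.span_le.2 key)
  have h1 := (Ideal.eq_top_iff_one _).1 (Ideal.radical_eq_top.1 htop)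
  simpa using h1

/-- Surjectivity can be checked over the base changes making the group diagonalisable. -/
theorem surjective_of_diag (hA : SGA3b.IsMultType R A) {N P : Type u} [AddCommGroup N] [Module R N] [AddCommGroup P]
    [Module R P] (φ : N →ₗ[R] P)
    (h : ∀ (T : Type u) [CommRing T] [Algebra R T], SGA3b.IsDiag T (T ⊗[R] A) →
      Function.Surjective (LinearMap.lTensor T φ)) : Function.Surjective φ := by
  intro p
  have hp : (LinearMap.range φ).mkQ p = 0 := eq_zero_of_diag hA _ fun T _ _ hT => by
    obtain ⟨y, hy⟩ := h T hT ((1 : T) ⊗ₜ[R] p)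
    rw [show (1 : T) ⊗ₜ[R] (LinearMap.range φ).mkQ p = LinearMap.lTensor T (LinearMap.range φ).mkQ ((1 : T) ⊗ₜ[R] p)
      from rfl, ← hy, ← LinearMap.comp_apply, ← LinearMap.lTensor_comp,
      show (LinearMap.range φ).mkQ.comp φ = 0 from by ext n; simp, LinearMap.lTensor_zero, LinearMap.zero_apply]
  exact (Submodule.Quotient.mk_eq_zero _).1 hp

section Rigid

variable {T : Type u} [CommRing T] {M : Type u} [CommGroup M] {C : Type u} [CommRing C] [Bialgebra T C]

open MonoidAlgebra in
/-- `T[M] → T[M × M]` along a homomorphism -/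
def jm (f : M →* M × M) : MonoidAlgebra T M →ₐ[T] MonoidAlgebra T (M × M) := mapDomainAlgHom T T f

variable (T M) in
/-- multiplicativity -/
def IsMult (f : C →ₐ[T] MonoidAlgebra T M) : Prop :=
  WithConv.toConv ((jm ((MonoidHom.id M).prod (MonoidHom.id M))).comp f) =
    WithConv.toConv ((jm (MonoidHom.inl M M)).comp f) * WithConv.toConv ((jm (MonoidHom.inr M M)).comp f)

@[simp]
theorem jm_single (f : M →* M × M) (m : M) (a : T) :
    jm f (MonoidAlgebra.single m a) = MonoidAlgebra.single (f m) a := by
  simp [jm]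

theorem isMult_bialgHom (φ : C →ₐc[T] MonoidAlgebra T M) :
    IsMult T M (φ : C →ₐ[T] MonoidAlgebra T M) := by
  apply WithConv.ofConv_injective
  refine AlgHom.ext fun c => ?_
  have h1 : ∀ z : MonoidAlgebra T M, jm ((MonoidHom.id M).prod (MonoidHom.id M)) z =
      Algebra.TensorProduct.lmul' T (Algebra.TensorProduct.map (jm (MonoidHom.inl M M)) (jm (MonoidHom.inr M M))
        (comul (R := T) z)) := fun z => by
    induction z using MonoidAlgebra.induction_linear with
    | zero => simp
    | add x y hx hy => simp [hx, hy]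
    | single m a => simp [MonoidAlgebra.comul_single, MonoidAlgebra.single_mul_single]
  show jm _ (φ c) = _
  rw [h1, ← CoalgHomClass.map_comp_comul_apply]
  have h2 : ∀ w : C ⊗[T] C, Algebra.TensorProduct.lmul' T
      (Algebra.TensorProduct.map (jm (T := T) (MonoidHom.inl M M)) (jm (MonoidHom.inr M M))
        (TensorProduct.map (φ : C →ₗ[T] MonoidAlgebra T M) (φ : C →ₗ[T] MonoidAlgebra T M) w)) =
      Algebra.TensorProduct.lmul' T (Algebra.TensorProduct.map ((jm (MonoidHom.inl M M)).comp (φ : C →ₐ[T] _))
        ((jm (MonoidHom.inr M M)).comp (φ : C →ₐ[T] _)) w) := fun w => by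
    induction w with
    | zero => simp
    | add x y hx hy => simp [hx, hy]
    | tmul x y => simp
  exact h2 _

/-- A multiplicative family congruent to the trivial one modulo an ideal is so modulo all its powers. -/
theorem rigid_pow (f : C →ₐ[T] MonoidAlgebra T M) (hf : IsMult T M f) {I : Ideal T}
    (h0 : ∀ c m, (f c - algebraMap T _ (counit (R := T) c)).coeff m ∈ I) :
    ∀ n : ℕ, ∀ c m, (f c - algebraMap T _ (counit (R := T) c)).coeff m ∈ I ^ (n + 1) := by
  let D : C →ₗ[T] MonoidAlgebra T M := f.toLinearMap - (Algebra.linearMap T _).comp (counit (R := T))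
  have hD : ∀ c, D c = f c - algebraMap T _ (counit (R := T) c) := fun c => rfl
  show ∀ n : ℕ, ∀ c m, (D c).coeff m ∈ I ^ (n + 1)
  intro n
  induction n with
  | zero => intro c m; rw [zero_add, pow_one, hD]; exact h0 c m
  | succ n ih =>
    intro c m
    have key : jm ((MonoidHom.id M).prod (MonoidHom.id M)) (D c) =
        jm (MonoidHom.inl M M) (D c) + jm (MonoidHom.inr M M) (D c) +
          ∑ i ∈ (ℛ T c).index, jm (MonoidHom.inl M M) (D ((ℛ T c).left i)) *
            jm (MonoidHom.inr M M) (D ((ℛ T c).right i)) := by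
      have h1 : jm ((MonoidHom.id M).prod (MonoidHom.id M)) (f c) = ∑ i ∈ (ℛ T c).index,
          jm (MonoidHom.inl M M) (f ((ℛ T c).left i)) * jm (MonoidHom.inr M M) (f ((ℛ T c).right i)) := by
        have h := congrArg (fun z => z.ofConv c) hf
        refine h.trans ?_
        show Algebra.TensorProduct.lmul' T (Algebra.TensorProduct.map _ _ (comul (R := T) c)) = _
        simp [← (ℛ T c).eq, map_sum]
      have hfD : ∀ x, f x = D x + algebraMap T _ (counit (R := T) x) := fun x => by rw [hD, sub_add_cancel]
      have hl : ∀ (j : MonoidAlgebra T M →ₐ[T] MonoidAlgebra T (M × M)),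
          j (D c) = ∑ i ∈ (ℛ T c).index, j (D ((ℛ T c).left i)) * algebraMap T _ (counit (R := T) ((ℛ T c).right i)) ∧
          j (D c) = ∑ i ∈ (ℛ T c).index, algebraMap T _ (counit (R := T) ((ℛ T c).left i)) * j (D ((ℛ T c).right i)) := by
        intro j
        constructor
        · have hr : ∑ i ∈ (ℛ T c).index, counit (R := T) ((ℛ T c).right i) • (ℛ T c).left i = c := by
            have h := congrArg (TensorProduct.rid T C) (Coalgebra.sum_tmul_counit_eq (ℛ T c))
            simp only [map_sum, TensorProduct.rid_tmul, one_smul] at h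
            exact h
          conv_lhs => rw [← hr]
          rw [map_sum, map_sum]
          refine Finset.sum_congr rfl fun i _ => ?_
          rw [map_smul, map_smul, Algebra.smul_def, mul_comm]
        · conv_lhs => rw [← Coalgebra.sum_counit_smul (ℛ T c)]
          rw [map_sum, map_sum]
          refine Finset.sum_congr rfl fun i _ => ?_
          rw [map_smul, map_smul, Algebra.smul_def]
      have hε : algebraMap T (MonoidAlgebra T (M × M)) (counit (R := T) c) = ∑ i ∈ (ℛ T c).index,
          algebraMap T _ (counit (R := T) ((ℛ T c).left i)) * algebraMap T _ (counit (R := T) ((ℛ T c).right i)) := by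
        conv_lhs => rw [← Coalgebra.sum_counit_smul (ℛ T c)]
        simp [map_sum]
      simp only [hfD, map_add, AlgHom.commutes, add_mul, mul_add, Finset.sum_add_distrib, ← hε,
        ← (hl (jm (MonoidHom.inl M M))).1, ← (hl (jm (MonoidHom.inr M M))).2] at h1
      linear_combination h1
    have hc := congrArg (fun z => z.coeff (m, m)) key
    have hj : ∀ (f : M →* M × M), Function.Injective f → ∀ z : MonoidAlgebra T M, ∀ a,
        (jm f z).coeff (f a) = z.coeff a := fun f hf z a => by
      induction z using MonoidAlgebra.induction_linear with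
      | zero => simp
      | add x y hx hy => simp [hx, hy]
      | single b t => classical simp [jm_single, Finsupp.single_apply, hf.eq_iff]
    have hne : ∀ z : MonoidAlgebra T M, m ≠ 1 → (jm (MonoidHom.inl M M) z).coeff (m, m) = 0 ∧
        (jm (MonoidHom.inr M M) z).coeff (m, m) = 0 := fun z hm => by
      induction z using MonoidAlgebra.induction_linear with
      | zero => simp
      | add x y hx hy => simp [hx, hy]
      | single b t =>
        classical
        constructor <;>
        · rw [jm_single, MonoidAlgebra.coeff_single, Finsupp.single_apply, if_neg]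
          intro h
          simp [Prod.ext_iff] at h
          exact hm (by tauto)
    have hprod : ∀ x y : MonoidAlgebra T M, (jm (MonoidHom.inl M M) x * jm (MonoidHom.inr M M) y).coeff (m, m) =
        x.coeff m * y.coeff m := fun x y => by
      induction x using MonoidAlgebra.induction_linear with
      | zero => simp
      | add x x' hx hx' => simp [add_mul, hx, hx']
      | single b t =>
        induction y using MonoidAlgebra.induction_linear with
        | zero => simp
        | add y y' hy hy' =>
          rw [map_add, mul_add, MonoidAlgebra.coeff_add, Finsupp.add_apply, hy, hy', MonoidAlgebra.coeff_add,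
            Finsupp.add_apply, mul_add]
        | single b' t' =>
          classical
          simp [jm_single, MonoidAlgebra.single_mul_single, Finsupp.single_apply, Prod.ext_iff]
          split_ifs <;> simp_all
    have hdiag : (jm ((MonoidHom.id M).prod (MonoidHom.id M)) (D c)).coeff (m, m) = (D c).coeff m :=
      hj ((MonoidHom.id M).prod (MonoidHom.id M)) (fun a b h => congrArg Prod.fst h) (D c) m
    simp only [MonoidAlgebra.coeff_add, MonoidAlgebra.coeff_sum, Finsupp.add_apply, Finsupp.finsetSum_apply,
      hprod, hdiag] at hc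
    have hsum : ∑ i ∈ (ℛ T c).index, (D ((ℛ T c).left i)).coeff m * (D ((ℛ T c).right i)).coeff m ∈
        I ^ (n + 1 + 1) := Ideal.sum_mem _ fun i _ => by
      refine Ideal.pow_le_pow_right (show n + 1 + 1 ≤ (n + 1) + (n + 1) by omega) ?_
      rw [pow_add]
      exact Ideal.mul_mem_mul (ih _ _) (ih _ _)
    by_cases hm : m = 1
    · subst hm
      have h11 : (jm (MonoidHom.inl M M) (D c)).coeff (1, 1) = (D c).coeff 1 :=
        hj (MonoidHom.inl M M) (fun a b h => congrArg Prod.fst h) (D c) 1
      have h22 : (jm (MonoidHom.inr M M) (D c)).coeff (1, 1) = (D c).coeff 1 :=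
        hj (MonoidHom.inr M M) (fun a b h => congrArg Prod.snd h) (D c) 1
      rw [h11, h22] at hc
      have : (D c).coeff 1 = -∑ i ∈ (ℛ T c).index, (D ((ℛ T c).left i)).coeff 1 * (D ((ℛ T c).right i)).coeff 1 := by
        linear_combination -hc
      rw [this]
      exact neg_mem hsum
    · rw [(hne _ hm).1, (hne _ hm).2, zero_add, zero_add] at hc
      rw [hc]
      exact hsum

/-- A multiplicative family congruent to the trivial one modulo a nilpotent ideal is trivial. -/
theorem rigid (f : C →ₐ[T] MonoidAlgebra T M) (hf : IsMult T M f) {I : Ideal T} (hI : IsNilpotent I)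
    (h0 : ∀ c m, (f c - algebraMap T _ (counit (R := T) c)).coeff m ∈ I) :
    ∀ c, f c = algebraMap T _ (counit (R := T) c) := by
  intro c
  obtain ⟨k, hk⟩ := hI
  rw [← sub_eq_zero]
  refine MonoidAlgebra.ext (Finsupp.ext fun m => ?_)
  have := Ideal.pow_le_pow_right (Nat.le_succ k) (rigid_pow f hf h0 k c m)
  rw [hk] at this
  simpa using this

end Rigid

section Mono

variable {T : Type u} [CommRing T] {M : Type u} [CommGroup M] {C : Type u} [CommRing C] [HopfAlgebra T C]

theorem map_antipode (φ : C →ₐc[T] MonoidAlgebra T M) (c : C) :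
    φ (HopfAlgebra.antipode T c) = HopfAlgebra.antipode T (φ c) := by
  have h : WithConv.toConv (φ : C →ₐ[T] MonoidAlgebra T M) *
      WithConv.toConv ((HopfAlgebra.antipodeAlgHom T (MonoidAlgebra T M)).comp
        (φ : C →ₐ[T] MonoidAlgebra T M)) = 1 := by
    apply WithConv.ofConv_injective
    refine AlgHom.ext fun c => ?_
    let r : Coalgebra.Repr T (φ c) (C × C) :=
      ⟨(ℛ T c).index, fun i => φ ((ℛ T c).left i), fun i => φ ((ℛ T c).right i), by
        rw [← CoalgHomClass.map_comp_comul_apply, ← (ℛ T c).eq]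
        simp⟩
    have h1 := HopfAlgebra.sum_mul_antipode_eq_algebraMap_counit r
    rw [CoalgHomClass.counit_comp_apply] at h1
    show Algebra.TensorProduct.lmul' T (Algebra.TensorProduct.map _ _ (comul (R := T) c)) = _
    simp [← (ℛ T c).eq, map_sum]
    simp [r] at h1
    exact h1
  exact congrArg (fun z => z.ofConv c) (inv_eq_of_mul_eq_one_right h)

/-- A monomorphism out of a diagonalisable group is a closed immersion. -/
theorem surjective_of_mono (φ : C →ₐc[T] MonoidAlgebra T M)
    (hmono : ∀ (L : Type u) [CommRing L] [Algebra T L],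
      Function.Injective (fun x : MonoidAlgebra T M →ₐ[T] L => x.comp (φ : C →ₐ[T] MonoidAlgebra T M))) :
    Function.Surjective φ := by
  classical
  let D := (φ : C →ₐ[T] MonoidAlgebra T M).range
  have hsingle : ∀ z ∈ D, ∀ m, MonoidAlgebra.single m (z.coeff m) ∈ D := by
    rintro z ⟨c, rfl⟩ m
    let p : MonoidAlgebra T M ⊗[T] MonoidAlgebra T M →ₗ[T] MonoidAlgebra T M :=
      (TensorProduct.rid T _).toLinearMap.comp (LinearMap.lTensor _ ((Finsupp.lapply m).comp
        (MonoidAlgebra.coeffLinearEquiv T).toLinearMap))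
    have h1 : ∀ z : MonoidAlgebra T M, p (comul (R := T) z) = MonoidAlgebra.single m (z.coeff m) := fun z => by
      induction z using MonoidAlgebra.induction_linear with
      | zero => simp
      | add x y hx hy => simp [hx, hy]
      | single b t => by_cases hb : b = m <;> simp [p, hb]
    rw [← h1]
    have h2 : comul (R := T) (φ c) = ∑ i ∈ (ℛ T c).index, φ ((ℛ T c).left i) ⊗ₜ[T] φ ((ℛ T c).right i) := by
      rw [← CoalgHomClass.map_comp_comul_apply, ← (ℛ T c).eq]
      simp
    show p (comul (R := T) (φ c)) ∈ D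
    rw [h2, map_sum]
    refine Subalgebra.sum_mem _ fun i _ => ?_
    simp only [p, LinearMap.coe_comp, Function.comp_apply, LinearMap.lTensor_tmul, LinearEquiv.coe_coe,
      TensorProduct.rid_tmul]
    exact Subalgebra.smul_mem _ ((φ : C →ₐ[T] MonoidAlgebra T M).mem_range_self _) _
  let I : M → Ideal T := fun m => (Subalgebra.toSubmodule D).comap (MonoidAlgebra.lsingle m)
  suffices h : ∀ m, I m = ⊤ by
    intro z
    induction z using MonoidAlgebra.induction_linear with
    | zero => exact ⟨0, map_zero _⟩
    | add x y hx hy =>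
      obtain ⟨a, rfl⟩ := hx
      obtain ⟨b, rfl⟩ := hy
      exact ⟨a + b, map_add _ _ _⟩
    | single m t => exact (show t ∈ I m from (h m) ▸ Submodule.mem_top)
  intro m
  by_contra hne
  obtain ⟨p, hp, hle⟩ := Ideal.exists_le_maximal _ hne
  have hmul : ∀ a b s t, s ∈ I a → t ∈ I b → s * t ∈ I (a * b) := fun a b s t ha hb => by
    show MonoidAlgebra.single (a * b) (s * t) ∈ D
    rw [← MonoidAlgebra.single_mul_single]
    exact D.mul_mem ha hb
  have hinv : ∀ a s, s ∈ I a → s ∈ I a⁻¹ := fun a s hs => by
    obtain ⟨c, hc⟩ := (AlgHom.mem_range (φ := (φ : C →ₐ[T] MonoidAlgebra T M))).1 hs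
    refine ⟨HopfAlgebra.antipode T c, ?_⟩
    refine (map_antipode φ c).trans ?_
    rw [show φ c = MonoidAlgebra.single a s from hc]
    simp
  let N : Subgroup M :=
    { carrier := {a | ¬ I a ≤ p}
      mul_mem' := fun {a b} ha hb => by
        obtain ⟨s, hs, hsp⟩ := SetLike.not_le_iff_exists.1 ha
        obtain ⟨t, ht, htp⟩ := SetLike.not_le_iff_exists.1 hb
        exact SetLike.not_le_iff_exists.2 ⟨s * t, hmul a b s t hs ht,
          fun h => (hp.isPrime.mem_or_mem h).elim hsp htp⟩
      one_mem' := SetLike.not_le_iff_exists.2 ⟨1, (show MonoidAlgebra.single (1 : M) (1 : T) ∈ D from D.one_mem),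
        (Ideal.ne_top_iff_one p).1 hp.ne_top⟩
      inv_mem' := fun {a} ha => by
        obtain ⟨s, hs, hsp⟩ := SetLike.not_le_iff_exists.1 ha
        exact SetLike.not_le_iff_exists.2 ⟨s, hinv a s hs, hsp⟩ }
  let L := MonoidAlgebra (T ⧸ p) (M ⧸ N)
  let x₁ : MonoidAlgebra T M →ₐ[T] L :=
    MonoidAlgebra.lift T L M ((MonoidAlgebra.of (T ⧸ p) (M ⧸ N)).comp (QuotientGroup.mk' N))
  let x₂ : MonoidAlgebra T M →ₐ[T] L := MonoidAlgebra.lift T L M 1
  have hx : x₁ = x₂ := by
    apply hmono L
    refine AlgHom.ext fun c => ?_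
    have hz : ∀ a, x₁ (MonoidAlgebra.single a ((φ c).coeff a)) = x₂ (MonoidAlgebra.single a ((φ c).coeff a)) := by
      intro a
      by_cases ha : a ∈ N
      · simp [x₁, x₂, (QuotientGroup.eq_one_iff a).2 ha]
        rfl
      · have : (φ c).coeff a ∈ p := not_not.1 ha (hsingle _ ⟨c, rfl⟩ a)
        simp [x₁, x₂, Algebra.smul_def, IsScalarTower.algebraMap_apply T (T ⧸ p) L,
          Ideal.Quotient.eq_zero_iff_mem.2 this]
    show x₁ (φ c) = x₂ (φ c)
    rw [← MonoidAlgebra.sum_coeff_single (φ c), Finsupp.sum, map_sum, map_sum]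
    exact Finset.sum_congr rfl fun a _ => hz a
  have hm : m ∉ N := fun h => h hle
  have := congrArg (fun x : MonoidAlgebra T M →ₐ[T] L => (x (MonoidAlgebra.single m 1)).coeff (1 : M ⧸ N)) hx
  have hne' : (QuotientGroup.mk m : M ⧸ N) ≠ 1 := fun h => hm ((QuotientGroup.eq_one_iff m).1 h)
  have : Nontrivial (T ⧸ p) := Ideal.Quotient.nontrivial_iff.2 hp.ne_top
  simp [x₁, x₂, MonoidAlgebra.one_def, hne'] at *

end Mono

end Groth.Agent.SGA3bLib.Basic

end
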